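import Groth.Agent.Lib.SmoothLift15.Chart
import Groth.Agent.Lib.FormSmooth4.Section
import Groth.Agent.Lib.CAlgLow.ProjCrit
import Mathlib.Algebra.TrivSqZeroExt.Basic

/-!
# Projectivity and sections for first order neighbourhoods in formally smooth charts

The augmentation ideal of a square-zero augmented algebra which, after a faithfully flat base change,
is the first order neighbourhood of a point of a formally smooth algebra, is projective.
-/

set_option autoImplicit false
set_option linter.style.haveILetI false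

universe u

open scoped TensorProduct
open Groth.Agent.SmoothLift15 Groth.Agent.FormSmooth4

namespace Groth.Agent.FSmoothCharts27

/-- Square-zero augmented thickenings lift maps out of `πB`. -/
def HasLiftsOver {E B' R' : Type u} [CommRing E] [CommRing B'] [CommRing R'] [Algebra E B'] [Algebra E R']
    (πB : B' →ₐ[E] R') : Prop :=
  ∀ (T T₀ : Type u) [CommRing T] [CommRing T₀] [Algebra E T] [Algebra E T₀] (f : T →ₐ[E] T₀) (p₀ : T₀ →ₐ[E] R'),
    Function.Surjective f → RingHom.ker (p₀.comp f) ^ 2 = ⊥ → ∀ ψ : B' →ₐ[E] T₀, p₀.comp ψ = πB →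
      ∃ ψ' : B' →ₐ[E] T, f.comp ψ' = ψ

/-- The first order neighbourhood of a point of a formally smooth algebra has lifts. -/
theorem hasLiftsOver_quot_sq {E C' R' : Type u} [CommRing E] [CommRing C'] [CommRing R'] [Algebra E C']
    [Algebra E R'] [Algebra.FormallySmooth E C'] (εC : C' →ₐ[E] R') :
    HasLiftsOver (Ideal.Quotient.liftₐ (RingHom.ker εC ^ 2) εC fun _ hx => Ideal.pow_le_self two_ne_zero hx) := by
  intro T T₀ _ _ _ _ f p₀ hf h2 ψ hψ
  have hnil : IsNilpotent (RingHom.ker f) := ⟨2, le_antisymm ((Ideal.pow_right_mono (fun x hx => by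
    rw [RingHom.mem_ker] at hx ⊢
    rw [AlgHom.comp_apply, hx, map_zero]) 2).trans h2.le) bot_le⟩
  let φ := Algebra.FormallySmooth.liftOfSurjective (ψ.comp (Ideal.Quotient.mkₐ E _)) f hf hnil
  have hφ : f.comp φ = ψ.comp (Ideal.Quotient.mkₐ E _) := Algebra.FormallySmooth.comp_liftOfSurjective _ _ _ _
  have hk : ∀ x ∈ RingHom.ker εC ^ 2, φ x = 0 := by
    intro x hx
    have h1 : RingHom.ker εC ≤ (RingHom.ker (p₀.comp f)).comap φ := fun y hy => by
      rw [Ideal.mem_comap, RingHom.mem_ker, AlgHom.comp_apply, ← AlgHom.comp_apply f, hφ]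
      change (p₀.comp ψ) (Ideal.Quotient.mk _ y) = 0
      rw [hψ]
      exact hy
    have h3 := (Ideal.pow_right_mono h1 2).trans (Ideal.le_comap_pow _ 2) hx
    rw [h2] at h3
    exact h3
  exact ⟨Ideal.Quotient.liftₐ _ φ hk, Ideal.Quotient.algHom_ext E hφ⟩

variable {A B : Type u} [CommRing A] [CommRing B] [Algebra A B] (I : Ideal A) (π : B →ₐ[A] A ⧸ I)

theorem mul_eq_zero_augQuot (hπ2 : RingHom.ker π ^ 2 = ⊥) {x y : B ⧸ I.map (algebraMap A B)}
    (hx : augQuot I π hπ2 x = 0) (hy : augQuot I π hπ2 y = 0) : x * y = 0 := by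
  obtain ⟨b, rfl⟩ := Ideal.Quotient.mk_surjective x
  obtain ⟨c, rfl⟩ := Ideal.Quotient.mk_surjective y
  have h0 := Ideal.mul_mem_mul (I := RingHom.ker π) (J := RingHom.ker π) (r := b) (s := c) hx hy
  rw [← pow_two, hπ2, Ideal.mem_bot] at h0
  rw [← map_mul, h0, map_zero]

set_option maxHeartbeats 800000 in
/-- The augmentation ideal is projective. -/
theorem projective_augQuot_ker (hπ2 : RingHom.ker π ^ 2 = ⊥) {E B' : Type u} [CommRing E] [Algebra A E]
    [Module.FaithfullyFlat A E] [Algebra.Etale A E] [CommRing B'] [Algebra A B'] [Algebra E B'] [IsScalarTower A E B']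
    (v : B →ₐ[A] B')
    (hm : Function.Bijective (Algebra.TensorProduct.lift (Algebra.ofId E B') v (fun _ _ => .all _ _)))
    (πB : B' →ₐ[E] E ⧸ I.map (algebraMap A E)) (hπ : ∀ b, quotMap I E (π b) = πB (v b))
    (H : HasLiftsOver πB) :
    Module.Projective (A ⧸ I) (RingHom.ker (augQuot I π hπ2)) := by
  letI := (quotMap I E).toRingHom.toAlgebra
  haveI := (etale_quotMap I E).2
  set R' := E ⧸ I.map (algebraMap A E)
  set D := B ⧸ I.map (algebraMap A B)
  set ε := augQuot I π hπ2
  let Q := RingHom.ker ε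
  let rE := quotMap I E
  suffices hP : Module.Projective R' (R' ⊗[A ⧸ I] Q) from
    CAlgLow.projective_of_faithfullyFlat (S := R')
  refine Module.Projective.of_lifting_property fun {M N} _ _ _ _ f g hf => ?_
  letI : Module (A ⧸ I) N := Module.compHom N (algebraMap (A ⧸ I) R')
  letI : Module (A ⧸ I) M := Module.compHom M (algebraMap (A ⧸ I) R')
  haveI : IsScalarTower (A ⧸ I) R' N := IsScalarTower.of_algebraMap_smul fun _ _ => rfl
  haveI : IsScalarTower (A ⧸ I) R' M := IsScalarTower.of_algebraMap_smul fun _ _ => rfl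
  letI : Module R'ᵐᵒᵖ N := Module.compHom N ((RingHom.id R').fromOpposite mul_comm)
  haveI : IsCentralScalar R' N := ⟨fun _ _ => rfl⟩
  letI : Module R'ᵐᵒᵖ M := Module.compHom M ((RingHom.id R').fromOpposite mul_comm)
  haveI : IsCentralScalar R' M := ⟨fun _ _ => rfl⟩
  letI : Algebra E (TrivSqZeroExt R' N) := ((algebraMap R' (TrivSqZeroExt R' N)).comp (algebraMap E R')).toAlgebra
  letI : Algebra E (TrivSqZeroExt R' M) := ((algebraMap R' (TrivSqZeroExt R' M)).comp (algebraMap E R')).toAlgebra
  letI : Algebra A (TrivSqZeroExt R' N) := ((algebraMap E (TrivSqZeroExt R' N)).comp (algebraMap A E)).toAlgebra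
  haveI : IsScalarTower A E (TrivSqZeroExt R' N) := IsScalarTower.of_algebraMap_eq fun _ => rfl
  letI : Algebra A (TrivSqZeroExt R' M) := ((algebraMap E (TrivSqZeroExt R' M)).comp (algebraMap A E)).toAlgebra
  haveI : IsScalarTower A E (TrivSqZeroExt R' M) := IsScalarTower.of_algebraMap_eq fun _ => rfl
  let h : Q →ₗ[A ⧸ I] N := (g.restrictScalars (A ⧸ I)).comp (TensorProduct.mk (A ⧸ I) R' Q 1)
  -- projection to the augmentation ideal
  have hεmk : ∀ b, ε (Ideal.Quotient.mk _ b) = π b := fun b => rfl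
  have hεalg : ∀ r, ε (algebraMap (A ⧸ I) D r) = r := fun r => ε.commutes r
  let pr : B → Q := fun b => ⟨Ideal.Quotient.mk _ b - algebraMap (A ⧸ I) D (π b), by
    rw [RingHom.mem_ker, map_sub, hεalg, hεmk, sub_self]⟩
  have hπalg : ∀ a, π (algebraMap A B a) = Ideal.Quotient.mk I a := fun a => π.commutes a
  let ψB : B →ₐ[A] (TrivSqZeroExt R' N) :=
    { toFun := fun b => TrivSqZeroExt.inl (rE (π b)) + TrivSqZeroExt.inr (h (pr b))
      map_zero' := by
        have : pr 0 = 0 := Subtype.ext (by simp [pr])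
        rw [this]; simp
      map_one' := by
        have : pr 1 = 0 := Subtype.ext (by simp [pr])
        rw [this]; simp
      map_add' := fun b c => by
        have : pr (b + c) = pr b + pr c := Subtype.ext (by simp [pr]; ring)
        rw [this]
        refine TrivSqZeroExt.ext ?_ ?_ <;> simp
      map_mul' := fun b c => by
        have : pr (b * c) = π b • pr c + π c • pr b := Subtype.ext (by
          have h0 := mul_eq_zero_augQuot I π hπ2 (pr b).2 (pr c).2
          simp only [pr] at h0
          change _ = π b • (pr c).1 + π c • (pr b).1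
          simp only [pr, map_mul, Algebra.smul_def]
          linear_combination h0)
        rw [this, map_add, map_smul, map_smul]
        refine TrivSqZeroExt.ext ?_ ?_
        · simp [rE]
        · simp only [TrivSqZeroExt.snd_add, TrivSqZeroExt.snd_inl, TrivSqZeroExt.snd_inr, TrivSqZeroExt.snd_mul,
            TrivSqZeroExt.fst_add, TrivSqZeroExt.fst_inl, TrivSqZeroExt.fst_inr, zero_add, add_zero,
            op_smul_eq_smul]
          rfl
      commutes' := fun a => by
        have : pr (algebraMap A B a) = 0 := Subtype.ext (by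
          simp only [pr, hπalg]
          exact sub_eq_zero.2 rfl)
        rw [this, map_zero, TrivSqZeroExt.inr_zero, add_zero, hπalg]
        rfl }
  let m := AlgEquiv.ofBijective _ hm
  let ΨN : B' →ₐ[E] (TrivSqZeroExt R' N) :=
    (Algebra.TensorProduct.lift (Algebra.ofId E (TrivSqZeroExt R' N)) ψB (fun _ _ => .all _ _)).comp m.symm.toAlgHom
  let pN : (TrivSqZeroExt R' N) →ₐ[E] R' :=
    { (TrivSqZeroExt.fstHom R' R' N).toRingHom with
      commutes' := fun _ => rfl }
  let fE : (TrivSqZeroExt R' M) →ₐ[E] (TrivSqZeroExt R' N) :=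
    { (TrivSqZeroExt.map f).toRingHom with
      commutes' := fun e => (TrivSqZeroExt.map f).commutes (algebraMap E R' e) }
  have hΨN : ∀ b, ΨN (v b) = ψB b := fun b => by
    change Algebra.TensorProduct.lift (Algebra.ofId E (TrivSqZeroExt R' N)) ψB (fun _ _ => .all _ _) (m.symm (v b)) = _
    rw [show v b = m (1 ⊗ₜ b) by simp [m], AlgEquiv.symm_apply_apply]
    simp
  have hfst : ∀ x, (fE x).fst = x.fst := fun x => TrivSqZeroExt.fst_map f x
  obtain ⟨Φ, hΦ⟩ := H (TrivSqZeroExt R' M) (TrivSqZeroExt R' N) fE pN (fun y => by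
      obtain ⟨x, hx⟩ := hf y.snd
      refine ⟨TrivSqZeroExt.inl y.fst + TrivSqZeroExt.inr x, TrivSqZeroExt.ext ?_ ?_⟩
      · rw [hfst]; simp
      · change (TrivSqZeroExt.map f _).snd = _
        rw [TrivSqZeroExt.snd_map]; simp [hx])
    (by
      rw [pow_two, eq_bot_iff]
      refine Ideal.mul_le.2 fun x hx y hy => ?_
      have hx' : x.fst = 0 := (hfst x).symm.trans hx
      have hy' : y.fst = 0 := (hfst y).symm.trans hy
      rw [Ideal.mem_bot]
      refine TrivSqZeroExt.ext ?_ ?_
      · simp [hx']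
      · simp [hx', hy'])
    ΨN (by
      refine AlgHom.ext fun x => ?_
      obtain ⟨z, rfl⟩ := m.surjective x
      change pN (Algebra.TensorProduct.lift (Algebra.ofId E (TrivSqZeroExt R' N)) ψB (fun _ _ => .all _ _) (m.symm (m z))) = πB (m z)
      rw [AlgEquiv.symm_apply_apply]
      refine DFunLike.congr_fun (?_ : pN.comp (Algebra.TensorProduct.lift (Algebra.ofId E (TrivSqZeroExt R' N)) ψB fun _ _ => .all _ _) =
        πB.comp m.toAlgHom) z
      refine Algebra.TensorProduct.ext (algHom_quot_ext_self _ _) (AlgHom.ext fun b => ?_)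
      change pN (Algebra.TensorProduct.lift (Algebra.ofId E (TrivSqZeroExt R' N)) ψB (fun _ _ => .all _ _) ((1 : E) ⊗ₜ[A] b)) = πB (m ((1 : E) ⊗ₜ[A] b))
      rw [show m (1 ⊗ₜ b) = v b by simp [m], ← hπ]
      simp [pN, ψB, rE])
  let φB : B →+* (TrivSqZeroExt R' M) := Φ.toRingHom.comp v.toRingHom
  have hφB : ∀ b, fE (φB b) = ψB b := fun b => (DFunLike.congr_fun hΦ (v b)).trans (hΨN b)
  have hφfst : ∀ b, (φB b).fst = rE (π b) := fun b => by
    rw [← hfst, hφB]; simp [ψB]
  have hφalg : ∀ a, φB (algebraMap A B a) = algebraMap A (TrivSqZeroExt R' M) a := fun a => by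
    change Φ (v (algebraMap A B a)) = _
    rw [v.commutes, IsScalarTower.algebraMap_apply A E B', Φ.commutes]
    rfl
  have halgfst : ∀ a, algebraMap A (TrivSqZeroExt R' M) a = TrivSqZeroExt.inl (rE (Ideal.Quotient.mk I a)) := fun a => rfl
  let φD : D →+* (TrivSqZeroExt R' M) := Ideal.Quotient.lift _ φB fun x hx => by
    refine (Ideal.map_le_iff_le_comap.2 fun i hi => ?_ : I.map (algebraMap A B) ≤ RingHom.ker φB) hx
    rw [Ideal.mem_comap, RingHom.mem_ker, hφalg, halgfst, Ideal.Quotient.eq_zero_iff_mem.2 hi, map_zero]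
    exact TrivSqZeroExt.inl_zero _
  have hφDfst : ∀ x, (φD x).fst = rE (ε x) := fun x => by
    obtain ⟨b, rfl⟩ := Ideal.Quotient.mk_surjective x
    exact hφfst b
  let h' : Q →ₗ[A ⧸ I] M :=
    { toFun := fun q => (φD q.1).snd
      map_add' := fun x y => by simp [map_add]
      map_smul' := fun r q => by
        change (φD (r • q.1)).snd = _
        rw [Algebra.smul_def, map_mul, TrivSqZeroExt.snd_mul, hφDfst, hεalg, hφDfst,
          show ε q.1 = 0 from q.2, map_zero, op_smul_eq_smul, zero_smul, add_zero]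
        rfl }
  refine ⟨h'.liftBaseChange R', TensorProduct.AlgebraTensorModule.ext fun r q => ?_⟩
  rw [LinearMap.comp_apply, LinearMap.liftBaseChange_tmul, map_smul]
  obtain ⟨q, hq⟩ := q
  obtain ⟨b, rfl⟩ := Ideal.Quotient.mk_surjective q
  have hpr : pr b = ⟨Ideal.Quotient.mk _ b, hq⟩ := Subtype.ext (by
    simp only [pr]
    rw [show π b = 0 from hq, map_zero, sub_zero])
  have h1 : f (h' ⟨Ideal.Quotient.mk _ b, hq⟩) = h ⟨Ideal.Quotient.mk _ b, hq⟩ := by
    change f (φB b).snd = _
    rw [← TrivSqZeroExt.snd_map]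
    change (fE (φB b)).snd = _
    rw [hφB, ← hpr]
    simp [ψB]
  rw [h1]
  change r • g ((1 : R') ⊗ₜ[A ⧸ I] _) = g _
  rw [← map_smul, TensorProduct.smul_tmul', smul_eq_mul, mul_one]

/-- A projective augmentation ideal and a section over a faithfully flat algebra give a section. -/
theorem exists_section_of_projective (hπ2 : RingHom.ker π ^ 2 = ⊥)
    [Module.Projective (A ⧸ I) (RingHom.ker (augQuot I π hπ2))] (hinj : Function.Injective (algebraMap A B)) :
    ∃ σ : B →ₐ[A] A, ∀ b, Ideal.Quotient.mk I (σ b) = π b := by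
  classical
  let ε := augQuot I π hπ2
  let J : Submodule A B := (RingHom.ker π).restrictScalars A
  have hT : Module.IsTorsionBySet A J (I : Set A) := fun x ⟨i, hi⟩ => by
    have h0 := Ideal.mul_mem_mul (algebraMap_mem_ker I π hi) (x.2 : (x : B) ∈ RingHom.ker π)
    rw [← pow_two, hπ2, Ideal.mem_bot] at h0
    refine Subtype.ext ?_
    change i • (x : B) = 0
    rw [Algebra.smul_def, h0]
  letI : Module (A ⧸ I) J := hT.module
  let Q := RingHom.ker ε
  let q : J →ₗ[A ⧸ I] Q :=
    { toFun := fun x => ⟨Ideal.Quotient.mk _ (x : B), x.2⟩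
      map_add' := fun x y => Subtype.ext (map_add _ _ _)
      map_smul' := fun r x => by
        obtain ⟨a, rfl⟩ := Ideal.Quotient.mk_surjective r
        refine Subtype.ext ?_
        change Ideal.Quotient.mk _ (a • (x : B)) = Ideal.Quotient.mk I a • Ideal.Quotient.mk _ (x : B)
        rw [Algebra.smul_def, Algebra.smul_def, map_mul]
        rfl }
  have hq : Function.Surjective q := by
    rintro ⟨y, hy⟩
    obtain ⟨b, rfl⟩ := Ideal.Quotient.mk_surjective y
    exact ⟨⟨b, hy⟩, rfl⟩
  obtain ⟨t, ht'⟩ := Module.projective_lifting_property q LinearMap.id hq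
  have ht : ∀ x, q (t x) = x := fun x => LinearMap.congr_fun ht' x
  refine section_of_splitting I π hπ2 hinj
    { toFun := fun z => (t ⟨z.1, z.2⟩ : B)
      map_add' := fun z w => by
        rw [← Submodule.coe_add, ← map_add]
        rfl
      map_smul' := fun c z => by
        rw [RingHom.id_apply]
        refine Eq.trans ?_ (show ((Ideal.Quotient.mk I c • t ⟨z.1, z.2⟩ : J) : B) = c • (t ⟨z.1, z.2⟩ : B) from rfl)
        rw [← map_smul]
        refine congrArg (fun w => (t w : B)) (Subtype.ext ?_)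
        change c • z.1 = Ideal.Quotient.mk I c • z.1
        obtain ⟨b, hb⟩ := Ideal.Quotient.mk_surjective z.1
        rw [← hb, Algebra.smul_def, Algebra.smul_def]
        rfl } (fun z => (t ⟨z.1, z.2⟩).2) (fun z => congrArg Subtype.val (ht ⟨z.1, z.2⟩))

end Groth.Agent.FSmoothCharts27
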