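import Groth.Agent.Lib.FSmoothCharts27.Space
import Groth.Agent.S9447
import Groth.Agent.Lib.FormSmooth4.Lift
import Groth.Prelude.Def_AlgSpCov
import Mathlib.RingTheory.Smooth.Pi
import Mathlib.RingTheory.TensorProduct.Pi

/-!
# Formal smoothness is local on the base for the fpqc topology
-/

set_option autoImplicit false
set_option linter.style.haveILetI false

universe u

open CategoryTheory CategoryTheory.Limits AlgebraicGeometry AlgSp Opposite MorphismProperty
open Groth.Agent.AlgSpace
open scoped TensorProduct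

namespace Groth.Agent.FSmoothCharts27

open Groth.Agent.AlgSpDescent
open Groth.Agent.SmoothLift15 hiding exists_lift_of_univ exists_lift_of_chart

section Algebra

variable {ι : Type} [Finite ι] {R C : Type u} [CommRing R] [CommRing C] [Algebra R C]
  (Rj : ι → Type u) [∀ j, CommRing (Rj j)] [∀ j, Algebra R (Rj j)]

/-- Formal smoothness descends along finite faithfully flat families. -/
theorem formallySmooth_of_family [∀ j, Module.Flat R (Rj j)]
    (hsurj : ∀ p : PrimeSpectrum R, ∃ j, p ∈ Set.range (PrimeSpectrum.comap (algebraMap R (Rj j))))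
    (h : ∀ j, Algebra.FormallySmooth (Rj j) (Rj j ⊗[R] C)) : Algebra.FormallySmooth R C := by
  classical
  haveI : Fintype ι := Fintype.ofFinite ι
  haveI : Module.Flat R (Π j, Rj j) :=
    Module.Flat.of_linearEquiv (DirectSum.linearEquivFunOnFintype R ι Rj).symm
  haveI : Module.FaithfullyFlat R (Π j, Rj j) := by
    refine Module.FaithfullyFlat.of_comap_surjective fun p => ?_
    obtain ⟨j, q, hq⟩ := hsurj p
    refine ⟨PrimeSpectrum.comap (Pi.evalRingHom Rj j) q, ?_⟩
    rw [← hq]
    rfl
  refine (Groth.Agent.S9447.result R C (Π j, Rj j)).2 ?_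
  let R' := Π j, Rj j
  letI : ∀ j, Algebra R' (Rj j) := fun j => (Pi.evalRingHom Rj j).toAlgebra
  haveI : ∀ j, IsScalarTower R R' (Rj j) := fun j => IsScalarTower.of_algebraMap_eq fun _ => rfl
  haveI : ∀ j, SMulCommClass R R' (Rj j) := fun j => inferInstance
  have hid : Algebra.FormallySmooth R' (Π j, Rj j) :=
    Algebra.FormallySmooth.of_equiv
      ({ RingEquiv.refl R' with commutes' := fun _ => rfl } : R' ≃ₐ[R'] (Π j, Rj j))
  haveI : Algebra.FormallySmooth R' (Π j, Rj j ⊗[R] C) :=
    (Algebra.FormallySmooth.pi_iff _).2 fun j => by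
      haveI := (Algebra.FormallySmooth.pi_iff (R := R') Rj).1 hid j
      haveI := h j
      exact Algebra.FormallySmooth.comp R' (Rj j) (Rj j ⊗[R] C)
  let ψ : R' ⊗[R] C →ₐ[R'] Π j, Rj j ⊗[R] C :=
    Algebra.TensorProduct.lift (Algebra.ofId R' _)
      (AlgHom.pi fun j => (Algebra.TensorProduct.includeRight : C →ₐ[R] Rj j ⊗[R] C))
      (fun _ _ => .all _ _)
  have hψ : Function.Bijective ψ := by
    let e₂ : R' ⊗[R] C ≃ₗ[R] Π j, Rj j ⊗[R] C :=
      (TensorProduct.comm R R' C).trans ((TensorProduct.piRight R R C Rj).trans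
        (LinearEquiv.piCongrRight fun j => TensorProduct.comm R C (Rj j)))
    have : ⇑ψ = ⇑e₂ := funext fun z => by
      induction z using TensorProduct.induction_on with
      | zero => rw [map_zero, map_zero]
      | tmul r c =>
        funext j
        rw [show e₂ (r ⊗ₜ c) j = r j ⊗ₜ c from rfl]
        simp only [ψ, Algebra.TensorProduct.lift_tmul, Pi.mul_apply]
        change (r j ⊗ₜ[R] (1 : C)) * ((1 : Rj j) ⊗ₜ[R] c) = _
        rw [Algebra.TensorProduct.tmul_mul_tmul, mul_one, one_mul]
      | add x y hx hy => rw [map_add, map_add, hx, hy]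
    rw [this]
    exact e₂.bijective
  exact Algebra.FormallySmooth.of_equiv (AlgEquiv.ofBijective ψ hψ).symm

end Algebra

/-- Formal smoothness of schemes descends along finite flat jointly surjective families of affines. -/
theorem isFormallySmoothHom_spec_of_family {R C : CommRingCat.{u}} (φ : R ⟶ C) {m : ℕ} (W : Fin m → Scheme.{u})
    (c : ∀ j, W j ⟶ Spec R) [∀ j, IsAffine (W j)] [∀ j, Flat (c j)]
    (hsurj : ∀ z : Spec R, ∃ j, z ∈ Set.range (c j))
    (h : ∀ j, MoreMor.IsFormallySmoothHom (pullback.snd (Spec.map φ) (c j))) :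
    MoreMor.IsFormallySmoothHom (Spec.map φ) := by
  have hc : ∀ j, ∃ ψ : R ⟶ Γ(W j, ⊤), Spec.map ψ = (W j).isoSpec.inv ≫ c j := fun j => Spec.map_surjective _
  choose ψ hψ using hc
  letI := φ.hom.toAlgebra
  letI : ∀ j, Algebra R Γ(W j, ⊤) := fun j => (ψ j).hom.toAlgebra
  haveI : ∀ j, Module.Flat R Γ(W j, ⊤) := fun j =>
    RingHom.flat_algebraMap_iff.1 ((HasRingHomProperty.Spec_iff (P := @Flat)).1
      (hψ j ▸ (inferInstance : Flat ((W j).isoSpec.inv ≫ c j)) : Flat (Spec.map (ψ j))))
  have hC : Algebra.FormallySmooth R C := by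
    refine formallySmooth_of_family (fun j => Γ(W j, ⊤)) (fun p => ?_) fun j => ?_
    · obtain ⟨j, w, rfl⟩ := hsurj p
      refine ⟨j, (W j).isoSpec.hom w, ?_⟩
      change Spec.map (ψ j) ((W j).isoSpec.hom w) = _
      rw [hψ, ← Scheme.Hom.comp_apply, Iso.hom_inv_id_assoc]
    · have sq₁ := isPullback_SpecMap_of_isPushout _ _ _ _
        (CommRingCat.isPushout_tensorProduct R Γ(W j, ⊤) C)
      have sq₂ : IsPullback (pullback.snd (Spec.map φ) (c j) ≫ (W j).isoSpec.hom) (pullback.fst (Spec.map φ) (c j))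
          (Spec.map (ψ j)) (Spec.map φ) :=
        (IsPullback.of_hasPullback (Spec.map φ) (c j)).flip.of_iso (Iso.refl _) (W j).isoSpec (Iso.refl _) (Iso.refl _)
          (by simp) (by simp) (by simp [hψ]) (by simp)
      let e := sq₁.isoIsPullback _ _ sq₂
      have he : e.hom ≫ pullback.snd (Spec.map φ) (c j) ≫ (W j).isoSpec.hom = _ := sq₁.isoIsPullback_hom_fst _ _ sq₂
      have hFS := isFormallySmoothHom_comp (isFormallySmoothHom_of_etale e.hom)
        (isFormallySmoothHom_comp (h j) (isFormallySmoothHom_of_etale (W j).isoSpec.hom))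
      rw [he] at hFS
      convert formallySmooth_of_hom _ hFS using 1
      exact Algebra.algebra_ext _ _ fun _ => rfl
  intro A _ I hI a b w
  obtain ⟨α, rfl⟩ := Spec.map_surjective a
  obtain ⟨β, rfl⟩ := Spec.map_surjective b
  rw [← Spec.map_comp, ← Spec.map_comp] at w
  letI : Algebra R A := β.hom.toAlgebra
  have hw := congrArg CommRingCat.Hom.hom (Spec.map_injective w)
  obtain ⟨l, hl⟩ := Algebra.FormallySmooth.comp_surjective R C I hI
    { α.hom with commutes' := fun r => (RingHom.congr_fun hw r).symm }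
  refine ⟨Spec.map (CommRingCat.ofHom l.toRingHom), ?_, ?_⟩
  · rw [← Spec.map_comp]
    exact congrArg Spec.map (CommRingCat.hom_ext (congrArg AlgHom.toRingHom hl))
  · rw [← Spec.map_comp]
    exact congrArg Spec.map (CommRingCat.hom_ext (RingHom.ext fun r => l.commutes r))

variable {S : Scheme.{u}}

/-- Formal smoothness descends along fpqc coverings. -/
theorem isFormallySmoothMor_of_fpqc {ι : Type u} {Y : Sp S} (Yi : ι → Sp S) (g : ∀ i, Yi i ⟶ Y)
    (hY : IsAlgSpace Y) (hcov : IsFpqcCover Yi g) {X : Sp S} (f : X ⟶ Y) (hX : IsAlgSpace X)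
    (Xi : ι → Sp S) (p : ∀ i, Xi i ⟶ Yi i) (q : ∀ i, Xi i ⟶ X) (sqs : ∀ i, IsPullback (q i) (p i) f (g i))
    (hp : ∀ i, IsFormallySmoothMor (p i)) : IsFormallySmoothMor f := by
  obtain ⟨U, a, hae, has⟩ := hX.atlas
  obtain ⟨V, b, hbe, hbs⟩ := hY.atlas
  have sq := hbe.1.isPullback (a ≫ f)
  obtain ⟨h, hh⟩ := (yon S).map_surjective (hbe.1.fst (a ≫ f))
  let U' := hbe.1.pullback (a ≫ f)
  let a' := (yon S).map (hbe.1.snd (a ≫ f)) ≫ a
  have ha'e : RepWith @Etale a' := repWith_comp (repWith_of_isPullback sq hbe) hae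
  have ha's : RepWith @Surjective a' := repWith_comp (repWith_of_isPullback sq hbs) has
  have w' : a' ≫ f = (yon S).map h ≫ b := by
    rw [Category.assoc, ← sq.w]
    exact congrArg (· ≫ b) hh.symm
  refine isFormallySmoothMor_of_charts f a' b h ha'e ha's hbe w' ?_
  refine (FormSmooth4.isFormallySmoothHom_iff h.left).2 fun U₁ V₁ hU₁ hV₁ e => ?_
  -- the affine chart
  let VO : Over S := Over.mk (hV₁.fromSpec ≫ V.hom)
  let UO : Over S := Over.mk (hU₁.fromSpec ≫ U'.hom)
  let ιV : VO ⟶ V := Over.homMk hV₁.fromSpec rfl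
  let ιU : UO ⟶ U' := Over.homMk hU₁.fromSpec rfl
  let φ : UO ⟶ VO := Over.homMk (Spec.map (h.left.appLE V₁ U₁ e)) (by
    change _ ≫ hV₁.fromSpec ≫ V.hom = hU₁.fromSpec ≫ U'.hom
    rw [reassoc_of% (IsAffineOpen.SpecMap_appLE_fromSpec h.left hV₁ hU₁ e), Over.w h])
  have hφ : φ ≫ ιV = ιU ≫ h :=
    Over.OverMorphism.ext (IsAffineOpen.SpecMap_appLE_fromSpec h.left hV₁ hU₁ e)
  let bV := (yon S).map ιV ≫ b
  let aU := (yon S).map ιU ≫ a'
  have hbV : RepWith @Etale bV := repWith_comp ((repWith_yon_map_iff _ _).2 (by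
    change Etale hV₁.fromSpec
    infer_instance)) hbe
  have haU : RepWith @Etale aU := repWith_comp ((repWith_yon_map_iff _ _).2 (by
    change Etale hU₁.fromSpec
    infer_instance)) ha'e
  have w : aU ≫ f = (yon S).map φ ≫ bV := by
    rw [Category.assoc, w', ← Functor.map_comp_assoc, ← Functor.map_comp_assoc, hφ]
  -- reduce to the covering
  haveI : IsAffine VO.left := inferInstanceAs (IsAffine (Spec _))
  obtain ⟨m, W, c, hWa, hcf, hcs, hlift⟩ := hcov.2 VO inferInstance bV
  haveI := hWa
  haveI := hcf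
  have hFS : MoreMor.IsFormallySmoothHom φ.left := by
    refine isFormallySmoothHom_spec_of_family (h.left.appLE V₁ U₁ e) (fun j => (W j).left) (fun j => (c j).left)
      hcs fun j => ?_
    obtain ⟨i, l, hl⟩ := hlift j
    let Q := pullback f bV
    let qQ : Q ⟶ (yon S).obj VO := pullback.snd f bV
    let eU : (yon S).obj UO ⟶ Q := pullback.lift aU ((yon S).map φ) w
    have heU : IsFormallySmoothMor eU := by
      refine formallySmooth_of_comp (b := pullback.fst f bV) ?_ ?_
      · exact formallyUnramified_baseChange (IsPullback.of_hasPullback f bV).flip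
          (formallyEtale_iff.1 (formallyEtale_of_etale hbV)).2
      · rw [pullback.lift_fst]
        exact (formallyEtale_iff.1 (formallyEtale_of_etale haU)).1
    have sqQ := IsPullback.of_hasPullback qQ ((yon S).map (c j))
    have hout : IsPullback (pullback.fst qQ ((yon S).map (c j)) ≫ pullback.fst f bV)
        (pullback.snd qQ ((yon S).map (c j))) f (l ≫ g i) := by
      rw [hl]
      exact sqQ.paste_horiz (IsPullback.of_hasPullback f bV)
    have hPW : IsFormallySmoothMor (pullback.snd qQ ((yon S).map (c j))) :=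
      formallySmooth_baseChange
        (IsPullback.of_right (h₁₁ := (sqs i).lift _ (pullback.snd qQ ((yon S).map (c j)) ≫ l)
          (by rw [Category.assoc]; exact hout.w))
          (by rw [(sqs i).lift_fst]; exact hout) ((sqs i).lift_snd _ _ _) (sqs i)) (hp i)
    have sqZ := (yon S).map_isPullback (IsPullback.of_hasPullback φ (c j))
    let eZ : (yon S).obj (pullback φ (c j)) ⟶ pullback qQ ((yon S).map (c j)) :=
      pullback.lift ((yon S).map (pullback.fst φ (c j)) ≫ eU) ((yon S).map (pullback.snd φ (c j)))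
        (by rw [Category.assoc, pullback.lift_snd]; exact sqZ.w)
    have heZ : IsFormallySmoothMor eZ := by
      refine formallySmooth_baseChange (IsPullback.of_bot ?_ (pullback.lift_fst _ _ _).symm sqQ) heU
      rw [show eU ≫ qQ = (yon S).map φ from pullback.lift_snd _ _ _,
        show eZ ≫ pullback.snd qQ ((yon S).map (c j)) = _ from pullback.lift_snd _ _ _]
      exact sqZ
    have hZ : MoreMor.IsFormallySmoothHom (pullback.snd φ (c j)).left := by
      refine (formallySmooth_yon_map _).1 ?_
      rw [← show eZ ≫ pullback.snd qQ ((yon S).map (c j)) = _ from pullback.lift_snd _ _ _]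
      exact formallySmooth_comp heZ hPW
    have sqL := (Over.forget S).map_isPullback (IsPullback.of_hasPullback φ (c j))
    let ee := (IsPullback.of_hasPullback (Spec.map (h.left.appLE V₁ U₁ e)) (c j).left).isoIsPullback _ _ sqL
    have hee : ee.hom ≫ (pullback.snd φ (c j)).left = pullback.snd _ _ :=
      (IsPullback.of_hasPullback (Spec.map (h.left.appLE V₁ U₁ e)) (c j).left).isoIsPullback_hom_snd _ _ sqL
    rw [← hee]
    exact isFormallySmoothHom_comp (isFormallySmoothHom_of_etale ee.hom) hZ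
  exact formallySmooth_of_hom _ hFS

end Groth.Agent.FSmoothCharts27
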