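import Groth.Agent.Lib.FSmoothCharts27.Algebra

/-!
# Lifts from formally smooth étale charts

The argument of `Groth.Agent.Lib.SmoothLift15.Chart` with finite presentation replaced by the lifting
property of a formally smooth chart.
-/

set_option autoImplicit false
set_option linter.style.haveILetI false

universe u

open CategoryTheory CategoryTheory.Limits AlgebraicGeometry AlgSp Opposite MorphismProperty
open scoped TensorProduct

namespace Groth.Agent.FSmoothCharts27

open Groth.Agent.AlgSpDescent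
open Groth.Agent.SmoothLift15 hiding exists_lift_of_univ exists_lift_of_chart

variable {S : Scheme.{u}} {A : Type u} [CommRing A] {str : Spec (.of A) ⟶ S} {I : Ideal A}
  {P : Sp S} {prT : P ⟶ (yon S).obj (Over.mk str)} {s₀ : (yon S).obj (pt str (A ⧸ I)) ⟶ P}
variable {E : Type u} [CommRing E] [Algebra A E]

/-- A universal first order neighbourhood with lifts gives a lift. -/
theorem exists_lift_of_univ (hI : I ^ 2 = ⊥) [Module.FaithfullyFlat A E] [Algebra.Etale A E]
    (hs₀ : s₀ ≫ prT = (yon S).map (ptMap str (A ⧸ I)))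
    {B' : Type u} [CommRing B'] [Algebra A B'] [Algebra E B'] [IsScalarTower A E B']
    (πB : B' →ₐ[E] E ⧸ I.map (algebraMap A E)) (hπB : Function.Surjective πB) (hπB2 : RingHom.ker πB ^ 2 = ⊥)
    (gB : (yon S).obj (pt str B') ⟶ P) (hExtB : ExtendsPt I prT s₀ (πB.restrictScalars A) (quotMap I E) gB)
    (univ : IsUnivNbhd I E prT s₀ πB gB)
    (H : HasLiftsOver πB)
    (σ' : B' →ₐ[E] E) :
    ∃ ℓ : (yon S).obj (Over.mk str) ⟶ P,
      (yon S).map (ptMap str (A ⧸ I)) ≫ ℓ = s₀ ∧ ℓ ≫ prT = 𝟙 _ := by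
  obtain ⟨ρ, hcounit, hcoassoc, hρ1, hρ2⟩ := exists_coaction πB hπB hπB2 gB hExtB univ
  obtain ⟨B, π, hm, hBρ, hπ, hπ2⟩ := exists_descended πB hπB2 ρ hcounit hcoassoc hρ1
  let R' := E ⧸ I.map (algebraMap A E)
  let rE := quotMap I E
  let incB : B' →ₐ[A] E ⊗[A] B' := Algebra.TensorProduct.includeRight
  let ρA : B' →ₐ[A] E ⊗[A] B' := ρ.restrictScalars A
  let m : E ⊗[A] B →ₐ[E] B' :=
    Algebra.TensorProduct.lift (Algebra.ofId E B') B.val (fun _ _ => .all _ _)
  have hgB : gB ≫ prT = (yon S).map (ptMap str B') := hExtB.1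
  haveI := projective_augQuot_ker I π hπ2 B.val hm πB hπ H
  have hinj : Function.Injective (algebraMap A B) := by
    rw [injective_iff_map_eq_zero]
    intro a ha
    refine FaithfulSMul.algebraMap_injective A E ?_
    have h1 : (σ'.comp m) ((1 : E) ⊗ₜ[A] algebraMap A B a) = algebraMap A E a := by
      rw [← Algebra.TensorProduct.tmul_one_eq_one_tmul]
      exact (σ'.comp m).commutes _
    rw [← h1, ha, TensorProduct.tmul_zero, map_zero, map_zero]
  obtain ⟨σ₀, hσ₀⟩ := exists_section_of_projective I π hπ2 hinj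
  -- descending the map
  let q : pt str B' ⟶ pt str B := ptHom str B.val
  let eB : B ⊗[A] E ≃ₐ[B] B' := AlgEquiv.ofBijective _ (bijective_lift_comm E B' B.val hm fun _ => rfl)
  haveI : Etale q.left :=
    (HasRingHomProperty.Spec_iff (P := @Etale)).2 (RingHom.etale_algebraMap.2 (Algebra.Etale.of_equiv eB))
  have hqsurj : ∀ x, x ∈ Set.range q.left := by
    haveI : Module.FaithfullyFlat B B' := Module.FaithfullyFlat.of_linearEquiv _ _ eB.symm.toLinearEquiv
    exact fun x => PrimeSpectrum.comap_surjective_of_faithfullyFlat (A := B) (B := B') x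
  obtain ⟨gT, hgT⟩ := AlgSpDescent.exists_glue_etale (F := P) (fun _ : PUnit.{u + 1} => pt str B') (fun _ => q)
    (fun _ => inferInstance) (fun x => ⟨⟨⟩, hqsurj x⟩) (fun _ => gB) (fun _ _ V a b hab => by
      -- pairs over `B` factor through `E ⊗ B'`
      obtain ⟨x, hx⟩ := exists_toSpecΓ_fac a.left
      obtain ⟨y, hy⟩ := exists_toSpecΓ_fac b.left
      letI : Algebra A Γ(V.left, ⊤) := (x.comp (algebraMap A B')).toAlgebra
      have hxy : ∀ c : B, x (c : B') = y (c : B') := by
        have h := congrArg CommaMorphism.left hab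
        change a.left ≫ Spec.map _ = b.left ≫ Spec.map _ at h
        rw [hx, hy, Category.assoc, Category.assoc, ← Spec.map_comp, ← Spec.map_comp] at h
        rw [← CommRingCat.ofHom_comp, ← CommRingCat.ofHom_comp] at h
        exact fun c => RingHom.congr_fun (toSpecΓ_congr h) c
      let xA : B' →ₐ[A] Γ(V.left, ⊤) := { x with commutes' := fun _ => rfl }
      let yA : B' →ₐ[A] Γ(V.left, ⊤) := { y with
        commutes' := fun r => (hxy (algebraMap A B r)).symm }
      let z : E ⊗[A] B' →ₐ[A] Γ(V.left, ⊤) :=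
        Algebra.TensorProduct.lift (xA.comp ((Algebra.ofId E B').restrictScalars A)) yA (fun _ _ => .all _ _)
      have hz1 : z.comp ρA = xA := by
        refine AlgHom.ext fun w => ?_
        obtain ⟨w, rfl⟩ := hm.2 w
        induction w using TensorProduct.induction_on with
        | zero => simp
        | tmul e c =>
          have h1 : m (e ⊗ₜ c) = algebraMap E B' e * (c : B') := by simp [m]
          rw [h1, AlgHom.comp_apply, map_mul, map_mul, show ρA (algebraMap E B' e) = e ⊗ₜ 1 from ρ.commutes e,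
            show ρA (c : B') = 1 ⊗ₜ (c : B') from hBρ c]
          simp only [z, Algebra.TensorProduct.lift_tmul, map_one, mul_one, one_mul, map_mul]
          exact congrArg (_ * ·) (hxy c).symm
        | add u v hu hv => simp only [map_add, hu, hv]
      let vz : V ⟶ pt str (E ⊗[A] B') := Over.homMk (V.left.toSpecΓ ≫ Spec.map (CommRingCat.ofHom z.toRingHom)) (by
        change _ ≫ Spec.map _ ≫ str = V.hom
        rw [← Over.w a, hx, Category.assoc, ← Spec.map_comp_assoc]
        change _ = (_ ≫ Spec.map _) ≫ Spec.map _ ≫ str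
        rw [Category.assoc, ← Spec.map_comp_assoc]
        exact congrArg (fun h => V.left.toSpecΓ ≫ Spec.map (CommRingCat.ofHom h) ≫ str) (RingHom.ext z.commutes))
      have ha : vz ≫ ptHom str ρA = a := Over.OverMorphism.ext (by
        change (V.left.toSpecΓ ≫ Spec.map _) ≫ Spec.map _ = a.left
        rw [hx, Category.assoc, ← Spec.map_comp]
        exact congrArg (fun h => V.left.toSpecΓ ≫ Spec.map (CommRingCat.ofHom h)) (congrArg AlgHom.toRingHom hz1))
      have hb : vz ≫ ptHom str incB = b := Over.OverMorphism.ext (by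
        change (V.left.toSpecΓ ≫ Spec.map _) ≫ Spec.map _ = b.left
        rw [hy, Category.assoc, ← Spec.map_comp]
        exact congrArg (fun h => V.left.toSpecΓ ≫ Spec.map (CommRingCat.ofHom h)) (RingHom.ext fun w => by
          change z (1 ⊗ₜ w) = y w
          simp [z]
          rfl))
      rw [← ha, ← hb, Functor.map_comp_assoc, Functor.map_comp_assoc, hρ2])
  have hgT' : (yon S).map q ≫ gT = gB := hgT ⟨⟩
  have hgTpr : gT ≫ prT = (yon S).map (ptMap str B) := AlgSpDescent.eq_of_etale_nbhds fun x =>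
    ⟨_, q, inferInstance, hqsurj x, by rw [← Category.assoc, hgT', hgB, ← Functor.map_comp, ptHom_ptMap]⟩
  -- the lift
  let σp : Over.mk str ⟶ pt str B := Over.homMk (Spec.map (CommRingCat.ofHom σ₀.toRingHom)) (by
    change Spec.map _ ≫ Spec.map _ ≫ str = str
    rw [← Spec.map_comp_assoc, ← CommRingCat.ofHom_comp,
      show σ₀.toRingHom.comp (algebraMap A B) = RingHom.id A from RingHom.ext σ₀.commutes,
      CommRingCat.ofHom_id, Spec.map_id, Category.id_comp])
  refine ⟨(yon S).map σp ≫ gT, ?_, ?_⟩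
  · have hσp : ptMap str (A ⧸ I) ≫ σp = ptHom str π := Over.OverMorphism.ext ((Spec.map_comp _ _).symm.trans
      (congrArg (fun h => Spec.map (CommRingCat.ofHom h)) (RingHom.ext fun b => hσ₀ b)))
    rw [← Functor.map_comp_assoc, hσp]
    refine AlgSpDescent.eq_of_etale_nbhds fun x => ⟨_, ptHom str rE, ?_, ?_, ?_⟩
    · letI : Algebra (A ⧸ I) R' := rE.toRingHom.toAlgebra
      exact (HasRingHomProperty.Spec_iff (P := @Etale)).2 (RingHom.etale_algebraMap.2 (etale_quotMap I E).1)
    · letI : Algebra (A ⧸ I) R' := rE.toRingHom.toAlgebra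
      haveI : Module.FaithfullyFlat (A ⧸ I) R' := (etale_quotMap I E).2
      exact PrimeSpectrum.comap_surjective_of_faithfullyFlat (A := A ⧸ I) (B := R') x
    · rw [← Functor.map_comp_assoc, ptHom_comp,
        show rE.comp π = (πB.restrictScalars A).comp B.val from AlgHom.ext hπ, ← ptHom_comp,
        Functor.map_comp_assoc, hgT', hExtB.2]
  · rw [Category.assoc, hgTpr, ← Functor.map_comp, ← (yon S).map_id]
    refine congrArg _ (Over.OverMorphism.ext ?_)
    change Spec.map _ ≫ Spec.map _ = 𝟙 _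
    rw [← Spec.map_comp, ← CommRingCat.ofHom_comp,
      show σ₀.toRingHom.comp (algebraMap A B) = RingHom.id A from RingHom.ext σ₀.commutes,
      CommRingCat.ofHom_id, Spec.map_id]

/-- Lifts exist when there is a faithfully flat étale algebra with a lift to a formally smooth affine étale chart. -/
theorem exists_lift_of_chart (hI : I ^ 2 = ⊥) {P : Sp S} (prT : P ⟶ (yon S).obj (Over.mk str))
    (s₀ : (yon S).obj (pt str (A ⧸ I)) ⟶ P) (hs₀ : s₀ ≫ prT = (yon S).map (ptMap str (A ⧸ I)))
    {C : Type u} [CommRing C] [Algebra A C] [Algebra.FormallySmooth A C] (p : (yon S).obj (pt str C) ⟶ P)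
    (hp : RepWith @Etale p) (hpr : p ≫ prT = (yon S).map (ptMap str C))
    (E : Type u) [CommRing E] [Algebra A E] [Module.FaithfullyFlat A E] [Algebra.Etale A E]
    (εC₀ : C →ₐ[A] E ⧸ I.map (algebraMap A E))
    (hε : (yon S).map (ptHom str εC₀) ≫ p = (yon S).map (ptHom str
      (Ideal.Quotient.liftₐ I (Algebra.ofId A (E ⧸ I.map (algebraMap A E))) fun a ha =>
        Ideal.Quotient.eq_zero_iff_mem.2 (Ideal.mem_map_of_mem _ ha))) ≫ s₀) :
    ∃ ℓ : (yon S).obj (Over.mk str) ⟶ P,
      (yon S).map (ptMap str (A ⧸ I)) ≫ ℓ = s₀ ∧ ℓ ≫ prT = 𝟙 _ := by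
  set R' := E ⧸ I.map (algebraMap A E)
  let rE : (A ⧸ I) →ₐ[A] R' := Ideal.Quotient.liftₐ I (Algebra.ofId A R') fun a ha =>
    Ideal.Quotient.eq_zero_iff_mem.2 (Ideal.mem_map_of_mem _ ha)
  -- the first order neighbourhood over `E`
  let εC : E ⊗[A] C →ₐ[E] R' := Algebra.TensorProduct.lift (Algebra.ofId E R') εC₀ (fun _ _ => .all _ _)
  have hεC : Function.Surjective εC := fun r => by
    obtain ⟨e, rfl⟩ := Ideal.Quotient.mk_surjective r
    exact ⟨algebraMap E _ e, εC.commutes e⟩
  let B' := (E ⊗[A] C) ⧸ RingHom.ker εC ^ 2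
  let πB : B' →ₐ[E] R' := Ideal.Quotient.liftₐ _ εC fun x hx => Ideal.pow_le_self two_ne_zero hx
  have hπB : Function.Surjective πB := fun r => by
    obtain ⟨x, rfl⟩ := hεC r
    exact ⟨Ideal.Quotient.mk _ x, rfl⟩
  have hπB2 : RingHom.ker πB ^ 2 = ⊥ := by
    rw [pow_two (RingHom.ker πB), eq_bot_iff]
    refine Ideal.mul_le.2 fun x hx y hy => ?_
    obtain ⟨x, rfl⟩ := Ideal.Quotient.mk_surjective x
    obtain ⟨y, rfl⟩ := Ideal.Quotient.mk_surjective y
    rw [Ideal.mem_bot, ← map_mul, Ideal.Quotient.eq_zero_iff_mem, pow_two]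
    exact Ideal.mul_mem_mul hx hy
  let cB : C →ₐ[A] B' := ((Ideal.Quotient.mkₐ E (RingHom.ker εC ^ 2)).restrictScalars A).comp
    Algebra.TensorProduct.includeRight
  have hcB : (πB.restrictScalars A).comp cB = εC₀ := AlgHom.ext fun c => by
    change εC (1 ⊗ₜ c) = εC₀ c
    simp [εC]
  let gB : (yon S).obj (pt str B') ⟶ P := (yon S).map (ptHom str cB) ≫ p
  have hgB : gB ≫ prT = (yon S).map (ptMap str B') := by
    rw [Category.assoc, hpr, ← Functor.map_comp, ptHom_ptMap]
  -- maps extending the given point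
  have hExtB : ExtendsPt I prT s₀ (πB.restrictScalars A) rE gB := ⟨hgB, by
    rw [← Functor.map_comp_assoc, ptHom_comp, hcB, hε]⟩
  have univ : IsUnivNbhd I E prT s₀ πB gB := by
    intro D D₀ _ _ _ _ _ _ _ _ πD hs hK r g hg
    obtain ⟨⟨φC, hφ1, hφ2⟩, huniq⟩ := existsUnique_lift prT p hp hpr (πD.restrictScalars A) hs hK g hg.1
      ((r.restrictScalars A).comp εC₀) (by
        rw [hg.2, ← ptHom_comp, Functor.map_comp_assoc, hε, ← ptHom_comp, Functor.map_comp_assoc])
    constructor
    · let Φ : E ⊗[A] C →ₐ[E] D := Algebra.TensorProduct.lift (Algebra.ofId E D) φC (fun _ _ => .all _ _)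
      have hΦ : πD.comp Φ = r.comp εC := Algebra.TensorProduct.ext (algHom_quot_ext_self _ _) (AlgHom.ext fun c => by
        change πD (Φ (1 ⊗ₜ c)) = r (εC (1 ⊗ₜ c))
        simpa [Φ, εC] using DFunLike.congr_fun hφ1 c)
      have hΦK : ∀ x ∈ RingHom.ker εC ^ 2, Φ x = 0 := by
        intro x hx
        have h1 : RingHom.ker εC ≤ (RingHom.ker πD).comap Φ := fun y hy => by
          rw [Ideal.mem_comap, RingHom.mem_ker]
          change (πD.comp Φ) y = 0
          rw [hΦ, AlgHom.comp_apply, show εC y = 0 from hy, map_zero]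
        have h2 := (Ideal.pow_right_mono h1 2).trans (Ideal.le_comap_pow _ 2) hx
        rw [hK] at h2
        exact h2
      refine ⟨Ideal.Quotient.liftₐ _ Φ hΦK, Ideal.Quotient.algHom_ext E hΦ, ?_⟩
      rw [← hφ2, ← Functor.map_comp_assoc, ptHom_comp]
      refine congrArg (fun ψ => (yon S).map (ptHom str ψ) ≫ p) (AlgHom.ext fun c => ?_)
      change Φ (1 ⊗ₜ c) = φC c
      simp [Φ]
    · intro φ φ' h1 h2 h3
      refine Ideal.Quotient.algHom_ext E (Algebra.TensorProduct.ext (algHom_quot_ext_self _ _) ?_)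
      refine huniq ((φ.restrictScalars A).comp cB) ((φ'.restrictScalars A).comp cB)
        (AlgHom.ext fun c => (DFunLike.congr_fun h1 (cB c)).trans (DFunLike.congr_fun h2 (cB c)).symm) ?_
      refine Eq.trans ?_ (Eq.trans h3 ?_) <;> rw [← Functor.map_comp_assoc, ptHom_comp]
  -- the section over `E`
  have hIE : (I.map (algebraMap A E)) ^ 2 = ⊥ := by rw [← Ideal.map_pow, hI, Ideal.map_bot]
  obtain ⟨σC, hσC⟩ := Algebra.FormallySmooth.comp_surjective E (E ⊗[A] C) _ hIE εC
  have hσCK : ∀ x ∈ RingHom.ker εC ^ 2, σC x = 0 := by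
    intro x hx
    have h1 : RingHom.ker εC ≤ (I.map (algebraMap A E)).comap σC := fun y hy => by
      rw [Ideal.mem_comap, ← Ideal.Quotient.eq_zero_iff_mem]
      exact (DFunLike.congr_fun hσC y).trans hy
    have h2 := (Ideal.pow_right_mono h1 2).trans (Ideal.le_comap_pow _ 2) hx
    rw [hIE] at h2
    exact h2
  let σ' : B' →ₐ[E] E := Ideal.Quotient.liftₐ _ σC hσCK
  exact exists_lift_of_univ hI hs₀ πB hπB hπB2 gB hExtB univ (hasLiftsOver_quot_sq εC) σ'

end Groth.Agent.FSmoothCharts27
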