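import Groth.Agent.Lib.FSmoothCharts27.Lift
import Groth.Agent.Lib.SmoothLift15.Space
import Groth.Agent.Lib.AlgSpace.Base
import Groth.Prelude.Def_MoreMor

/-!
# Formal smoothness from charts
-/

set_option autoImplicit false
set_option linter.style.haveILetI false

universe u

open CategoryTheory CategoryTheory.Limits AlgebraicGeometry AlgSp Opposite MorphismProperty TopologicalSpace
open Groth.Agent.AlgSpace

namespace Groth.Agent.FSmoothCharts27

open Groth.Agent.AlgSpDescent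
open Groth.Agent.SmoothLift15 hiding exists_lift_of_univ exists_lift_of_chart

variable {S : Scheme.{u}}

theorem isFormallySmoothHom_comp {X Y Z : Scheme.{u}} {f : X ⟶ Y} {g : Y ⟶ Z}
    (hf : MoreMor.IsFormallySmoothHom f) (hg : MoreMor.IsFormallySmoothHom g) :
    MoreMor.IsFormallySmoothHom (f ≫ g) := by
  intro A _ I hI a b w
  obtain ⟨l, h1, h2⟩ := hg A I hI (a ≫ f) b (by rw [w, Category.assoc])
  obtain ⟨m, h3, h4⟩ := hf A I hI a l h1
  exact ⟨m, h3, by rw [← Category.assoc, h4, h2]⟩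

theorem isFormallySmoothHom_of_etale {X Y : Scheme.{u}} (f : X ⟶ Y) [Etale f] :
    MoreMor.IsFormallySmoothHom f :=
  ((SmoothLift15.smooth_iff f).1 inferInstance).2

/-- A ring map whose spectrum is formally smooth is formally smooth. -/
theorem formallySmooth_of_hom {R C : Type u} [CommRing R] [CommRing C] (χ : R →+* C)
    (h : MoreMor.IsFormallySmoothHom (Spec.map (CommRingCat.ofHom χ))) :
    letI := χ.toAlgebra
    Algebra.FormallySmooth R C := by
  letI := χ.toAlgebra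
  refine Algebra.FormallySmooth.iff_comp_surjective.2 fun B _ _ J hJ g => ?_
  obtain ⟨l, h1, h2⟩ := h B J hJ (Spec.map (CommRingCat.ofHom g.toRingHom))
    (Spec.map (CommRingCat.ofHom (algebraMap R B))) (by
      rw [← Spec.map_comp, ← Spec.map_comp]
      exact congrArg Spec.map (CommRingCat.hom_ext (RingHom.ext fun r => (g.commutes r).symm)))
  obtain ⟨φ, rfl⟩ := Spec.map_surjective l
  rw [← Spec.map_comp] at h1 h2
  have h2' := congrArg CommRingCat.Hom.hom (Spec.map_injective h2)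
  refine ⟨{ φ.hom with commutes' := fun r => RingHom.congr_fun h2' r }, AlgHom.ext fun c => ?_⟩
  exact RingHom.congr_fun (congrArg CommRingCat.Hom.hom (Spec.map_injective h1)) c

/-- A morphism with a formally smooth chart, surjective on the source, is formally smooth. -/
theorem isFormallySmoothMor_of_charts {X Y : Sp S} (g : X ⟶ Y) {U₀ V₀ : Over S} (a₀ : (yon S).obj U₀ ⟶ X)
    (b₀ : (yon S).obj V₀ ⟶ Y) (h₀ : U₀ ⟶ V₀) (ha₀ : RepWith @Etale a₀) (has₀ : RepWith @Surjective a₀)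
    (hb₀ : RepWith @Etale b₀) (w₀ : a₀ ≫ g = (yon S).map h₀ ≫ b₀) (hh₀ : MoreMor.IsFormallySmoothHom h₀.left) :
    IsFormallySmoothMor g := by
  intro sq
  have sqP := IsPullback.of_hasPullback g sq.bot
  let prT : pullback g sq.bot ⟶ (yon S).obj sq.ptT' := pullback.snd g sq.bot
  let s₀ := sqP.lift sq.top ((yon S).map sq.j) sq.comm
  -- the chart of the pullback
  have sqV := hb₀.1.isPullback sq.bot
  obtain ⟨fV, hfV⟩ := (yon S).map_surjective (hb₀.1.fst sq.bot)
  have hZ := IsPullback.of_hasPullback h₀ fV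
  have sqZ := ((yon S).map_isPullback hZ).paste_vert (hfV.symm ▸ sqV)
  set U : Over S := pullback h₀ fV
  let p : (yon S).obj U ⟶ pullback g sq.bot := sqP.lift ((yon S).map (pullback.fst h₀ fV) ≫ a₀)
    ((yon S).map (pullback.snd h₀ fV ≫ hb₀.1.snd sq.bot)) (by
      rw [Category.assoc, w₀, Functor.map_comp]
      exact sqZ.w)
  have sqA : IsPullback ((yon S).map (pullback.fst h₀ fV)) p a₀ (pullback.fst g sq.bot) := by
    refine IsPullback.of_bot ?_ (sqP.lift_fst _ _ _).symm sqP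
    rw [w₀, show p ≫ pullback.snd g sq.bot = _ from sqP.lift_snd _ _ _, Functor.map_comp]
    exact sqZ
  have hpe : RepWith @Etale p := repWith_of_isPullback sqA ha₀
  have hps : RepWith @Surjective p := repWith_of_isPullback sqA has₀
  let h := pullback.snd h₀ fV ≫ hb₀.1.snd sq.bot
  have hh : (yon S).map h = p ≫ prT := (sqP.lift_snd _ _ _).symm
  have hsm : MoreMor.IsFormallySmoothHom h.left := by
    refine isFormallySmoothHom_comp ((formallySmooth_yon_map (pullback.snd h₀ fV)).1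
      (formallySmooth_baseChange ((yon S).map_isPullback hZ) ((formallySmooth_yon_map h₀).2 hh₀))) ?_
    haveI : Etale (hb₀.1.snd sq.bot).left := hb₀.2 _ _ _ sqV
    exact isFormallySmoothHom_of_etale _
  -- the cover of the closed subscheme
  have sqW := hpe.1.isPullback s₀
  haveI : Etale (hpe.1.snd s₀).left := hpe.2 s₀ _ _ sqW
  haveI : Surjective (hpe.1.snd s₀).left := hps.2 s₀ _ _ sqW
  obtain ⟨fstW, hfstW⟩ := (yon S).map_surjective (hpe.1.fst s₀ ≫ p ≫ prT)
  obtain ⟨sW, hsW⟩ := (yon S).map_surjective (hpe.1.fst s₀)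
  haveI : IsAffine sq.ptT.left := (inferInstance : IsAffine (Spec _))
  obtain ⟨W', U', _, _, q, ω, a, hq, ha, hsq, hsurj⟩ :=
    exists_affine_refinement_pair sW.left (hpe.1.snd s₀).left
  -- the chart
  obtain ⟨χ, hχ⟩ := Spec.map_surjective (U'.isoSpec.inv ≫ q ≫ h.left)
  letI : Algebra sq.A Γ(U', ⊤) := χ.hom.toAlgebra
  haveI : Algebra.FormallySmooth sq.A Γ(U', ⊤) := by
    refine formallySmooth_of_hom χ.hom ?_
    rw [show Spec.map (CommRingCat.ofHom χ.hom) = U'.isoSpec.inv ≫ q ≫ h.left from hχ, ← Category.assoc]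
    exact isFormallySmoothHom_comp (isFormallySmoothHom_of_etale _) hsm
  let qO : pt sq.str Γ(U', ⊤) ⟶ U := Over.homMk (U'.isoSpec.inv ≫ q) (by
    rw [← Over.w h]
    change (U'.isoSpec.inv ≫ q) ≫ h.left ≫ sq.str = Spec.map χ ≫ sq.str
    rw [hχ, Category.assoc, Category.assoc, Category.assoc])
  let pC := (yon S).map qO ≫ p
  have hpC : RepWith @Etale pC := repWith_comp ((repWith_yon_map_iff _ _).2 (by
    change Etale (U'.isoSpec.inv ≫ q)
    infer_instance)) hpe
  have hpCr : pC ≫ prT = (yon S).map (ptMap sq.str Γ(U', ⊤)) := by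
    rw [Category.assoc, ← hh, ← Functor.map_comp]
    refine congrArg _ (Over.OverMorphism.ext ?_)
    change (U'.isoSpec.inv ≫ q) ≫ h.left = Spec.map χ
    rw [hχ, Category.assoc]
  -- the étale algebra
  haveI hwe : Etale (a ≫ (hpe.1.snd s₀).left) := inferInstance
  obtain ⟨ψ, hψ⟩ := Spec.map_surjective (W'.isoSpec.inv ≫ a ≫ (hpe.1.snd s₀).left)
  letI : Algebra (sq.A ⧸ sq.I) Γ(W', ⊤) := ψ.hom.toAlgebra
  letI : Algebra sq.A Γ(W', ⊤) := (ψ.hom.comp (Ideal.Quotient.mk sq.I)).toAlgebra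
  haveI : IsScalarTower sq.A (sq.A ⧸ sq.I) Γ(W', ⊤) := IsScalarTower.of_algebraMap_eq fun _ => rfl
  haveI : Algebra.Etale (sq.A ⧸ sq.I) Γ(W', ⊤) := by
    refine RingHom.etale_algebraMap.1 ?_
    exact (HasRingHomProperty.Spec_iff (P := @Etale)).1
      (hψ ▸ (inferInstance : Etale (W'.isoSpec.inv ≫ a ≫ (hpe.1.snd s₀).left)) : Etale (Spec.map ψ))
  obtain ⟨E, _, _, _, θ, hθ, hker⟩ := Hens.exists_etale_lift sq.A sq.I Γ(W', ⊤)
  let e : (E ⧸ sq.I.map (algebraMap sq.A E)) ≃ₐ[sq.A] Γ(W', ⊤) :=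
    (Ideal.quotientEquivAlgOfEq sq.A hker.symm).trans (Ideal.quotientKerAlgEquivOfSurjective hθ)
  haveI : Module.FaithfullyFlat sq.A E := by
    refine Module.FaithfullyFlat.of_comap_surjective fun x => ?_
    obtain ⟨t, rfl⟩ := (surjective_specMap_mk sq.I sq.sq_zero).surj x
    obtain ⟨z, hz⟩ := hsurj.surj t
    refine ⟨PrimeSpectrum.comap θ.toRingHom (W'.isoSpec.hom z), ?_⟩
    have h2 : Spec.map ψ (W'.isoSpec.hom z) = t := by
      rw [hψ, ← Scheme.Hom.comp_apply, Iso.hom_inv_id_assoc, hz]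
    rw [← h2]
    change PrimeSpectrum.comap (algebraMap sq.A E) (PrimeSpectrum.comap θ.toRingHom _) = _
    rw [← PrimeSpectrum.comap_comp_apply, show θ.toRingHom.comp (algebraMap sq.A E) = algebraMap sq.A Γ(W', ⊤) from θ.comp_algebraMap]
    rfl
  let eO : pt sq.str (E ⧸ sq.I.map (algebraMap sq.A E)) ⟶ pt sq.str Γ(W', ⊤) := ptHom sq.str e.symm.toAlgHom
  let aO : pt sq.str Γ(W', ⊤) ⟶ hpe.1.pullback s₀ := Over.homMk (W'.isoSpec.inv ≫ a) (by
    rw [← Over.w (hpe.1.snd s₀)]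
    change (W'.isoSpec.inv ≫ a) ≫ (hpe.1.snd s₀).left ≫
        Spec.map (CommRingCat.ofHom (Ideal.Quotient.mk sq.I)) ≫ sq.str = _
    rw [← Category.assoc (W'.isoSpec.inv ≫ a), Category.assoc W'.isoSpec.inv, ← hψ, ← Spec.map_comp_assoc]
    rfl)
  have hquot : eO ≫ aO ≫ hpe.1.snd s₀ = ptHom sq.str (quotMap sq.I E) := by
    refine Over.OverMorphism.ext ?_
    change Spec.map _ ≫ (W'.isoSpec.inv ≫ a) ≫ (hpe.1.snd s₀).left = Spec.map _
    rw [Category.assoc, ← hψ, ← Spec.map_comp]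
    refine congrArg Spec.map (CommRingCat.hom_ext (Ideal.Quotient.ringHom_ext (RingHom.ext fun r => ?_)))
    exact (e.symm.commutes r).trans rfl
  let v : pt sq.str (E ⧸ sq.I.map (algebraMap sq.A E)) ⟶ pt sq.str Γ(U', ⊤) :=
    eO ≫ Over.homMk (W'.isoSpec.inv ≫ ω ≫ U'.isoSpec.hom) (by
      rw [← Over.w aO]
      change (W'.isoSpec.inv ≫ ω ≫ U'.isoSpec.hom) ≫ Spec.map χ ≫ sq.str = (W'.isoSpec.inv ≫ a) ≫ (hpe.1.pullback s₀).hom
      rw [hχ, ← Over.w sW, ← Over.w h]
      simp only [Category.assoc, Iso.hom_inv_id_assoc]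
      rw [reassoc_of% hsq]
      rfl)
  have hv : v ≫ qO = eO ≫ aO ≫ sW := by
    refine Over.OverMorphism.ext ?_
    change (Spec.map _ ≫ W'.isoSpec.inv ≫ ω ≫ U'.isoSpec.hom) ≫ U'.isoSpec.inv ≫ q =
      Spec.map _ ≫ (W'.isoSpec.inv ≫ a) ≫ sW.left
    simp only [Category.assoc, Iso.hom_inv_id_assoc, hsq]
  have hvC : (yon S).map v ≫ pC = (yon S).map (ptHom sq.str (quotMap sq.I E)) ≫ s₀ := by
    rw [← Functor.map_comp_assoc, hv, Functor.map_comp, Functor.map_comp, hsW, Category.assoc, Category.assoc,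
      sqW.w, ← Functor.map_comp_assoc, ← Functor.map_comp_assoc, Category.assoc, hquot]
  have hvT : v ≫ ptMap sq.str Γ(U', ⊤) = ptMap sq.str _ := (yon S).map_injective (by
    rw [Functor.map_comp, ← hpCr, ← Category.assoc, hvC, Category.assoc,
      show s₀ ≫ prT = (yon S).map sq.j from sqP.lift_snd _ _ _, ← Functor.map_comp]
    exact congrArg _ (ptHom_ptMap (str := sq.str) (quotMap sq.I E)))
  obtain ⟨εC₀, hεC₀⟩ := exists_ptHom_eq v hvT
  obtain ⟨ℓ, hℓ1, hℓ2⟩ := FSmoothCharts27.exists_lift_of_chart (I := sq.I) sq.sq_zero prT s₀ (sqP.lift_snd _ _ _) pC hpC hpCr E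
    εC₀ (by rw [hεC₀]; exact hvC)
  refine ⟨ℓ ≫ pullback.fst g sq.bot, ?_, ?_⟩
  · rw [← Category.assoc]
    exact (congrArg (· ≫ pullback.fst g sq.bot) hℓ1).trans (sqP.lift_fst _ _ _)
  · rw [Category.assoc, pullback.condition, ← Category.assoc]
    exact (congrArg (· ≫ sq.bot) hℓ2).trans (Category.id_comp _)

end Groth.Agent.FSmoothCharts27
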